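import Groth.Agent.CurveBC.Main
import Groth.Agent.CurveVA.Bar

/-!
Pullbacks of independent sections are independent.
-/

noncomputable section

set_option autoImplicit false
set_option linter.style.haveILetI false
set_option linter.unusedSectionVars false
set_option backward.isDefEq.respectTransparency false
set_option backward.isDefEq.respectTransparency.types false

universe u

open CategoryTheory CategoryTheory.Limits AlgebraicGeometry TopologicalSpace Opposite
open Groth.Agent.CurveVA (pullTop sc)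

namespace Groth.Agent.SepPt

theorem homOfTop_one {X : Scheme.{u}} {M : X.Modules} (t : Γ(M, ⊤)) :
    (QCoh.homOfTop t).app ⊤ (H23.Frame.one ⊤) = t := by
  refine (QCoh.homOfTop_app t (W := ⊤) (1 : Γ(X, ⊤))).trans ?_
  rw [one_smul]
  exact ConcreteCategory.congr_hom (M.presheaf.map_id _) t

/-- Evaluation of morphisms at a section. -/
def evalAt {X : Scheme.{u}} {F G : X.Modules} (w : Γ(F, ⊤)) : (F ⟶ G) →+ Γ(G, ⊤) :=
  AddMonoidHom.mk' (fun φ => φ.app ⊤ w) fun _ _ => rfl

variable {X : Scheme.{u}} (k : Type u) [Field k] [X.Over (Spec (CommRingCat.of k))]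

theorem h0_symm_sum {n : ℕ} {M : X.Modules} (a : Fin n → k) (b : Fin n → Γ(M, ⊤)) :
    ∑ i, a i • (Sheaf.H.equiv₀ (Coh.toAb M) isTerminalTop).symm (b i) =
      (Sheaf.H.equiv₀ (Coh.toAb M) isTerminalTop).symm (∑ i, sc (X := X) k (a i) • b i) := by
  rw [AddEquiv.eq_symm_apply, map_sum]
  exact Finset.sum_congr rfl fun i _ => (CurveCohLib.h0Equiv_smul M (a i) _).trans
    (congrArg (sc (X := X) k (a i) • ·) (AddEquiv.apply_symm_apply _ (b i)))

variable [IsProper (X ↘ Spec (CommRingCat.of k))]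
  (K : Type u) [Field K] [Algebra k K] {X' : Scheme.{u}} [X'.Over (Spec (CommRingCat.of K))]
  (g : X' ⟶ X) [Flat g] [Surjective g] [IsProper (X' ↘ Spec (CommRingCat.of K))] [Nonempty X']
  (hpb : IsPullback g (X' ↘ Spec (CommRingCat.of K)) (X ↘ Spec (CommRingCat.of k))
      (Spec.map (CommRingCat.ofHom (algebraMap k K))))

include hpb

/-- Independent sections stay independent after extension of the base field. -/
theorem pull_independent (h0 : Module.finrank k (Coh.HH X (Coh.structureModule X) 0) = 1) {M : X.Modules}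
    (hM : FlatMod.IsFinLocFree M) {n : ℕ} (s : Fin n → Γ(M, ⊤))
    (hs : LinearIndependent k fun i => (Sheaf.H.equiv₀ (Coh.toAb M) isTerminalTop).symm (s i)) :
    LinearIndependent K fun i =>
      (Sheaf.H.equiv₀ (Coh.toAb ((Scheme.Modules.pullback g).obj M)) isTerminalTop).symm (pullTop g M (s i)) := by
  classical
  haveI := CurveCohLib.isNoetherian_of_proper (k := k) (X := X)
  haveI := CurveCohLib.isNoetherian_of_proper (k := K) (X := X')
  haveI : CompactSpace X := inferInstance
  haveI := quasiSeparatedSpace_of_quasiSeparated (X ↘ Spec (CommRingCat.of k))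
  let P := Scheme.Modules.pullback g
  let F := FlatMod.freeMod X n
  let ι : Fin n → (Coh.structureModule X ⟶ F) := fun i =>
    Sigma.ι (fun _ : Fin n => Coh.structureModule X) i
  let pr : Fin n → (F ⟶ Coh.structureModule X) := fun j =>
    Sigma.desc fun i => if i = j then 𝟙 (Coh.structureModule X) else 0
  let q : F ⟶ M := Sigma.desc fun i => QCoh.homOfTop (s i)
  let u : Fin n → Γ(F, ⊤) := fun i => (ι i).app ⊤ (H23.Frame.one ⊤)
  have hqu : ∀ i, q.app ⊤ (u i) = s i := fun i => by
    refine (congrArg (fun φ : Coh.structureModule X ⟶ M => φ.app ⊤ (H23.Frame.one ⊤))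
      (Sigma.ι_desc (fun i => QCoh.homOfTop (s i)) i : ι i ≫ q = _)).trans ?_
    exact homOfTop_one _
  have hpru : ∀ i j, (pr j).app ⊤ (u i) = if i = j then H23.Frame.one ⊤ else 0 := fun i j => by
    refine (congrArg (fun φ : Coh.structureModule X ⟶ Coh.structureModule X => φ.app ⊤ (H23.Frame.one ⊤))
      (Sigma.ι_desc (fun i => if i = j then 𝟙 (Coh.structureModule X) else 0) i : ι i ≫ pr j = _)).trans ?_
    split_ifs
    · rfl
    · rfl
  have hsum : ∑ j, pr j ≫ ι j = 𝟙 F := by
    refine Sigma.hom_ext _ _ fun i => ?_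
    rw [Preadditive.comp_sum, Finset.sum_eq_single i]
    · show ι i ≫ pr i ≫ ι i = ι i ≫ 𝟙 F
      rw [← Category.assoc, show ι i ≫ pr i = _ from Sigma.ι_desc _ i, if_pos rfl, Category.id_comp,
        Category.comp_id]
    · intro j _ hj
      show ι i ≫ pr j ≫ ι j = 0
      rw [← Category.assoc, show ι i ≫ pr j = _ from Sigma.ι_desc _ i, if_neg (Ne.symm hj), zero_comp]
    · intro h; exact absurd (Finset.mem_univ i) h
  -- downstairs
  have hker : ∀ w : Γ(F, ⊤), q.app ⊤ w = 0 → w = 0 := by
    intro w hw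
    choose a ha using fun j => (CurveBC.bijective_appTop k X h0).2 ((pr j).app ⊤ w : Γ(X, ⊤))
    let c : Fin n → k := fun j => (Scheme.ΓSpecIso (CommRingCat.of k)).hom (a j)
    have hc : ∀ j, (sc (X := X) k (c j)) = ((pr j).app ⊤ w : Γ(X, ⊤)) := fun j => by
      refine Eq.trans ?_ (ha j)
      show X.presheaf.map (𝟙 (op ⊤)) ((X ↘ Spec (CommRingCat.of k)).appTop
        ((Scheme.ΓSpecIso (CommRingCat.of k)).inv ((Scheme.ΓSpecIso (CommRingCat.of k)).hom (a j)))) = _
      rw [Iso.hom_inv_id_apply, CategoryTheory.Functor.map_id]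
      rfl
    have hw' : w = ∑ j, sc (X := X) k (c j) • u j := by
      refine (congrArg (evalAt w) hsum.symm : evalAt w (𝟙 F) = _).trans ?_
      rw [map_sum]
      refine Finset.sum_congr rfl fun j _ => ?_
      rw [hc]
      exact H23.Frame.app_eq_smul (ι j) ⊤ _
    have h1 : ∑ j, sc (X := X) k (c j) • s j = 0 := by
      have h2 := congrArg (q.app ⊤) hw'
      rw [hw, map_sum] at h2
      refine (Finset.sum_congr rfl fun j _ => ?_).trans h2.symm
      refine Eq.trans ?_ (Scheme.Modules.Hom.app_smul q _ _).symm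
      rw [hqu]
    have h2 := Fintype.linearIndependent_iff.mp hs c (by rw [h0_symm_sum, h1, map_zero])
    rw [hw']
    refine Finset.sum_eq_zero fun j _ => ?_
    rw [hc, ← hc, h2 j]
    show (X.presheaf.map _ (Coh.toGlobal _ (0 : k))) • u j = 0
    rw [map_zero, map_zero, zero_smul]
  -- upstairs
  rw [Fintype.linearIndependent_iff]
  intro c hc
  rw [h0_symm_sum, map_eq_zero_iff _ (AddEquiv.injective _)] at hc
  let z : Γ(P.obj F, ⊤) := ∑ i, sc (X := X') K (c i) • pullTop g F (u i)
  have hmap : ∀ {G : X.Modules} (φ : F ⟶ G) (v : Γ(F, ⊤)),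
      (P.map φ).app ⊤ (pullTop g F v) = pullTop g G (φ.app ⊤ v) := fun φ v =>
    (congrArg (fun ψ => ψ.app ⊤ v)
      ((Scheme.Modules.pullbackPushforwardAdjunction g).unit.naturality φ)).symm
  have hmapz : ∀ {G : X.Modules} (φ : F ⟶ G),
      (P.map φ).app ⊤ z = ∑ i, sc (X := X') K (c i) • pullTop g G (φ.app ⊤ (u i)) := fun φ => by
    rw [map_sum]
    exact Finset.sum_congr rfl fun i _ => (Scheme.Modules.Hom.app_smul _ _ _).trans
      (congrArg (sc (X := X') K (c i) • ·) (hmap φ (u i)))
  have hqz : (P.map q).app ⊤ z = 0 := by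
    rw [hmapz]
    simp only [hqu]
    exact hc
  haveI : (Scheme.Modules.pullback g).Additive :=
    Adjunction.left_adjoint_additive (Scheme.Modules.pullbackPushforwardAdjunction g)
  haveI := KFlatLib.preservesHomology_pullback g
  haveI := Functor.preservesFiniteLimits_of_preservesHomology (Scheme.Modules.pullback g)
  have hFf : FlatMod.IsFinLocFree F := KFlatLib.isFinLocFree_freeMod n
  have hqF := QCoh.isQCoh_of_isFinLocFree hFf
  have hqM := QCoh.isQCoh_of_isFinLocFree hM
  have hI := QCoh.isQCoh_kernel hqF (QCoh.isQCoh_of_isFinLocFree hM) q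
  haveI : Subsingleton Γ(kernel q, ⊤) := subsingleton_of_forall_eq 0 fun w => by
    have h1 : QCoh.homOfTop w ≫ kernel.ι q = 0 := by
      refine CurveRR.hom_ext_one ?_
      show (kernel.ι q).app ⊤ ((QCoh.homOfTop w).app ⊤ (H23.Frame.one ⊤)) = _
      rw [homOfTop_one]
      refine hker _ ?_
      exact congrArg (fun φ : kernel q ⟶ M => φ.app ⊤ w) (kernel.condition q)
    rw [← homOfTop_one w, show QCoh.homOfTop w = 0 from (cancel_mono (kernel.ι q)).1 (h1.trans zero_comp.symm)]
    rfl
  have hrank : Module.finrank K (Coh.HH X' (P.obj (kernel q)) 0) = 0 := by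
    rw [CurveBC.finrank_hh k K g hpb _ hI]
    haveI : Subsingleton (Coh.HH X (kernel q) 0) := ⟨fun a b => (Sheaf.H.equiv₀ (Coh.toAb (kernel q)) isTerminalTop).injective (Subsingleton.elim (α := Γ(kernel q, ⊤)) _ _)⟩
    exact Module.finrank_zero_of_subsingleton
  let e : P.obj (kernel q) ≅ kernel (P.map q) := PreservesKernel.iso P q
  have hcoh : Coh.IsCoh (kernel (P.map q)) :=
    QCoh.isCoh_kernel (CurveDeg.isCoh_of_isFinLocFree (KFlatLib.isFinLocFree_pullback g hFf))
      (CurveDeg.isCoh_of_isFinLocFree (KFlatLib.isFinLocFree_pullback g hM)) _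
  haveI := CurveCohLib.finite_HH (k := K) hcoh 0
  have hsub : Subsingleton (Coh.HH X' (kernel (P.map q)) 0) :=
    Module.finrank_zero_iff.1 ((CurveCohLib.hhEquiv (k := K) e 0).finrank_eq ▸ hrank)
  have hzero : QCoh.homOfTop z ≫ P.map q = 0 := by
    refine CurveRR.hom_ext_one ?_
    show (P.map q).app ⊤ ((QCoh.homOfTop z).app ⊤ (H23.Frame.one ⊤)) = _
    rw [homOfTop_one, hqz]
    rfl
  have hz : z = 0 := by
    rw [← homOfTop_one z, ← kernel.lift_ι (P.map q) (QCoh.homOfTop z) hzero]
    show (kernel.ι (P.map q)).app ⊤ ((kernel.lift (P.map q) (QCoh.homOfTop z) hzero).app ⊤ (H23.Frame.one ⊤)) = 0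
    rw [(Sheaf.H.equiv₀ (Coh.toAb (kernel (P.map q))) isTerminalTop).symm.injective.subsingleton.elim
      ((kernel.lift (P.map q) (QCoh.homOfTop z) hzero).app ⊤ (H23.Frame.one ⊤)) 0, map_zero]
  intro j
  have hj := hmapz (pr j)
  rw [hz, map_zero] at hj
  rw [Finset.sum_eq_single j (fun i _ hij => by
      rw [hpru, if_neg hij]
      refine Eq.trans (congrArg (sc (X := X') K (c i) • ·) (show pullTop g (Coh.structureModule X) 0 = 0 from
        map_zero (((Scheme.Modules.pullbackPushforwardAdjunction g).unit.app (Coh.structureModule X)).app ⊤).hom)) ?_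
      exact smul_zero _) (fun h => absurd (Finset.mem_univ j) h), hpru, if_pos rfl] at hj
  have hfr : InvX.IsFrame (pullTop g (Coh.structureModule X) (H23.Frame.one ⊤)) :=
    InvX.isFrame_pullElt g (InvX.genLocus_pullback.isFrame_one' X)
  have h3 : sc (X := X') K (c j) = 0 := by
    refine hfr.coord_unique (V := ⊤) le_rfl ?_
    rw [AModX.res_self]
    exact hj.symm.trans (zero_smul _ _).symm
  by_contra hne
  haveI : Nonempty (⊤ : X'.Opens) := ⟨⟨Classical.arbitrary X', trivial⟩⟩
  let φ : K →+* Γ(X', ⊤) := (Coh.resTop X' (op ⊤)).comp (Coh.toGlobal (X' ↘ Spec (CommRingCat.of K)))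
  exact hne ((map_eq_zero φ).mp (h3 : φ (c j) = 0))

end Groth.Agent.SepPt
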