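import Groth.Agent.SepPt.Alg
import Groth.Agent.SepPt.Pull
import Groth.Agent.CurveFF.Omega
import Groth.Agent.CurveEmbed.Points
import Groth.Agent.SmoothDim.Basic
import Groth.Agent.SmoothReg.Scheme
import Groth.Agent.H23.EndInv
import Groth.Agent.Lib.CurveStable

/-!
A member of the canonical system of a curve with nonzero differential; zeros bound residue degrees.
-/

noncomputable section

set_option autoImplicit false
set_option linter.style.haveILetI false
set_option linter.unusedSectionVars false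
set_option backward.isDefEq.respectTransparency false
set_option backward.isDefEq.respectTransparency.types false
set_option maxHeartbeats 1000000

universe u

open CategoryTheory CategoryTheory.Limits AlgebraicGeometry TopologicalSpace Opposite
open Groth.Agent.CurveVA (pullTop sc)
open Groth.Agent.CurveCohLib.Polar (eta_mem InR)

namespace Groth.Agent.SepPt

attribute [local instance] CurveFF.ffAlg
attribute [local instance] Curv2.resAlgebra

/-- The coordinates of the sections lie in the space of the divisor. -/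
theorem coord_mem_L (k : Type u) [Field k] [IsAlgClosed k] {X : Scheme.{u}} [X.Over (Spec (CommRingCat.of k))]
    [IsIntegral X] [IsProper (X ↘ Spec (CommRingCat.of k))] [Smooth (X ↘ Spec (CommRingCat.of k))]
    (hdim : topologicalKrullDim X = 1) {M : X.Modules} (hM : PicF.IsInvertible M) {U₀ : X.Opens}
    {e₀ : Γ(M, U₀)} (he₀ : InvX.IsFrame e₀) (h₀ : genericPoint X ∈ U₀) (s : Γ(M, ⊤))
    (c : X.functionField)
    (hc : (show X.presheaf.stalk (genericPoint X) from c) • M.presheaf.germ U₀ (genericPoint X) h₀ e₀ =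
      M.presheaf.germ ⊤ (genericPoint X) trivial s) :
    c ∈ FunFld.L (CurveFF.divisor k hdim hM he₀ h₀) := by
  intro P
  obtain ⟨z, rfl⟩ := (CurveFF.pl k X hdim).surjective P
  have hU := eta_mem (CurveFF.mem_chartU hM z)
  rw [CurveFF.exp_divisor k hdim hM he₀ h₀ (CurveFF.isFrame_chartE hM z) hU (CurveFF.mem_chartU hM z)]
  have hs : CurveFF.ratio he₀ h₀ (show genericPoint X ∈ (⊤ : X.Opens) from trivial) s = c :=
    CurveFF.ratio_eq he₀ hc
  rw [← hs, CurveFF.ratio_trans he₀ h₀ (CurveFF.isFrame_chartE hM z) hU, map_mul]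
  exact mul_le_of_le_one_left' ((CurveFF.inR_iff k X hdim z _).1
    (CurveFF.inR_ratio (CurveFF.isFrame_chartE hM z) hU _ s (CurveFF.mem_chartU hM z) trivial))

variable (k : Type u) [Field k] {X : Scheme.{u}} [X.Over (Spec (CommRingCat.of k))] [IsIntegral X]
  [IsProper (X ↘ Spec (CommRingCat.of k))] [Smooth (X ↘ Spec (CommRingCat.of k))]
  (hdim : topologicalKrullDim X = 1)

include hdim

/-- The differentials of the function field have rank one. -/
theorem finrank_omega : Module.finrank X.functionField Ω[X.functionField⁄k] = 1 := by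
  let f := X ↘ Spec (CommRingCat.of k)
  obtain ⟨W, hW, V, hV, hη, e, hstd⟩ := Smooth.exists_isStandardSmooth f (genericPoint X)
  haveI : Subsingleton (Spec (CommRingCat.of k)) := inferInstanceAs (Subsingleton (PrimeSpectrum k))
  obtain rfl : W = ⊤ := top_le_iff.1 fun x _ => Subsingleton.elim (f (genericPoint X)) x ▸ e hη
  let φ : k →+* Γ(X, V) := (f.appLE ⊤ V e).hom.comp (Scheme.ΓSpecIso (CommRingCat.of k)).inv.hom
  have hφ : φ.IsStandardSmooth := RingHom.isStandardSmooth_respectsIso.2 _
    (Scheme.ΓSpecIso (CommRingCat.of k)).symm.commRingCatIsoToRingEquiv hstd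
  letI : Algebra k Γ(X, V) := φ.toAlgebra
  haveI : Algebra.IsStandardSmooth k Γ(X, V) := hφ
  haveI : Nonempty V := ⟨⟨_, hη⟩⟩
  obtain ⟨I, J, _, _, ⟨P⟩⟩ := ‹Algebra.IsStandardSmooth k Γ(X, V)›.out
  haveI : Algebra.IsStandardSmoothOfRelativeDimension P.dimension k Γ(X, V) :=
    ⟨I, J, inferInstance, inferInstance, P, rfl⟩
  have hd : P.dimension = 1 := by
    have h1 := SmoothDim.ringKrullDim_eq k Γ(X, V) P.dimension
    have h2 : topologicalKrullDim (V : Set X) = 1 := by
      rw [VarDim.topologicalKrullDim_opens_eq_iSup_deg f V, ← hdim, VarDim.topologicalKrullDim_eq_deg_genericPoint f]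
      refine le_antisymm (iSup_le fun z => ?_) (le_iSup_of_le ⟨_, hη⟩ le_rfl)
      exact_mod_cast VarDim.deg_le_of_specializes f ((genericPoint_spec X).specializes (Set.mem_univ z.1))
    have h3 : ringKrullDim Γ(X, V) = 1 := by
      rw [← PrimeSpectrum.topologicalKrullDim_eq_ringKrullDim]
      exact (hV.isoSpec.hom.homeomorph.isHomeomorph.topologicalKrullDim_eq).symm.trans h2
    rw [h1] at h3
    exact_mod_cast h3
  let B := Γ(X, V)
  let L := X.functionField
  haveI := functionField_isFractionRing_of_isAffineOpen X V hV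
  haveI : IsScalarTower k B L := IsScalarTower.of_algebraMap_eq fun c => by
    show X.presheaf.germ ⊤ _ _ (f.appTop ((Scheme.ΓSpecIso (CommRingCat.of k)).inv c)) =
      X.presheaf.germ V _ hη (X.presheaf.map (homOfLE e).op (f.app ⊤ ((Scheme.ΓSpecIso (CommRingCat.of k)).inv c)))
    exact (X.presheaf.germ_res_apply (homOfLE e) (genericPoint X) hη _).symm
  rw [IsLocalization.finrank_eq (R := B) L (nonZeroDivisors B) le_rfl,
    IsLocalizedModule.finrank_eq (nonZeroDivisors B) (KaehlerDifferential.map k k B L) le_rfl, Module.finrank,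
    Algebra.IsStandardSmoothOfRelativeDimension.rank_kaehlerDifferential (S := B) P.dimension, hd]
  simp

/-- A section vanishing at a closed point bounds the residue degree. -/
theorem finrank_residueField_le {L : X.Modules} (hL : PicF.IsInvertible L) {σ : Γ(L, ⊤)} (hσ : σ ≠ 0)
    {x : X} (hx : IsClosed ({x} : Set X)) {W : X.Opens} (hxW : x ∈ W) (e : Γ(L, W)) (a : Γ(X, W))
    (hres : AModX.res L (le_top : W ≤ ⊤) σ = a • e)
    (ha : X.presheaf.germ W x hxW a ∈ IsLocalRing.maximalIdeal (X.presheaf.stalk x)) :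
    (Module.finrank k (X.residueField x) : ℤ) ≤ Curv2.deg k X L 1 := by
  have hreg : IsRegularLocalRing (X.presheaf.stalk x) :=
    SmoothReg.isRegularLocalRing_stalk_of_mem_smoothLocus (X ↘ Spec (CommRingCat.of k)) (by
      rw [(Scheme.Hom.smoothLocus_eq_top_iff (f := X ↘ Spec (CommRingCat.of k))).2 inferInstance]
      trivial)
  haveI : IsDiscreteValuationRing (X.presheaf.stalk x) := by
    haveI := CurveCohLib.isNoetherian_of_proper (k := k) (X := X)
    have hd : ringKrullDim (X.presheaf.stalk x) = 1 :=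
      (SmoothReg.ringKrullDim_stalk_closedPoint (X ↘ Spec (CommRingCat.of k)) hx).trans hdim
    refine IsLocalRing.finrank_CotangentSpace_eq_one_iff.mp ?_
    rw [IsRegularLocalRing.iff_finrank_cotangentSpace, hd] at hreg
    exact_mod_cast hreg
  have hP := CurveEmbed.isInvertible_point k hdim hx (inferInstance : IsIntegrallyClosed (X.presheaf.stalk x))
  haveI := CurveCohLib.isNoetherian_of_proper (k := k) (X := X)
  have hS := CurveTensor.shortExact_tensor
    (CurveStable.isFinLocFree_of_rank (InvEnd.isFinLocFreeOfRank_one hL)) _ _ _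
    (CurvePoint.shortExact_pt x hx)
  let μ := (DCoh.tensorBi.obj L).map (ClSub.toSubscheme (CurvePoint.ptIdeal x hx))
  let φ := (KFlatLib.tensorUnitIso L).inv ≫ μ
  have h1 : φ.app ⊤ σ = 0 := by
    let N := (DCoh.tensorBi.obj L).obj (ClSub.quotMod (CurvePoint.ptIdeal x hx))
    refine TopCat.Presheaf.section_ext (C := AddCommGrpCat.{u}) ⟨N.presheaf, N.isSheaf⟩ ⊤ _ 0 fun y hy => ?_
    rw [map_zero]
    by_cases hyx : y = x
    · subst hyx
      refine ((N.presheaf.germ_res_apply (homOfLE (le_top : W ≤ ⊤)) y hxW _).symm).trans ?_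
      refine (congrArg (N.presheaf.germ W y hxW) ((AModX.app_res φ (le_top : W ≤ ⊤) σ).symm.trans
        ((congrArg (φ.app W) hres).trans (Scheme.Modules.Hom.app_smul φ a e)))).trans ?_
      refine (QCoh.germ_smul' N hxW a _).trans ?_
      exact CurvePoint.smul_tensor_eq_zero y hx ha _
    · haveI : Subsingleton (N.presheaf.stalk y) := by
        by_contra hns
        exact hyx (CurvePoint.support_quot_subset x hx (CurveTensor.support_tensor_subset
          (show y ∈ CohB1.support N from hns)))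
      exact Subsingleton.elim _ _
  have hw : QCoh.homOfTop ((KFlatLib.tensorUnitIso L).inv.app ⊤ σ) ≫ μ = 0 := by
    refine CurveRR.hom_ext_one ?_
    show μ.app ⊤ ((QCoh.homOfTop ((KFlatLib.tensorUnitIso L).inv.app ⊤ σ)).app ⊤ (H23.Frame.one ⊤)) = _
    rw [homOfTop_one]
    exact h1
  haveI := hS.mono_f
  let ψ := hS.exact.lift (QCoh.homOfTop ((KFlatLib.tensorUnitIso L).inv.app ⊤ σ)) hw
  have hψ : ψ ≠ 0 := fun h => hσ (by
    have h2 := hS.exact.lift_f (QCoh.homOfTop ((KFlatLib.tensorUnitIso L).inv.app ⊤ σ)) hw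
    rw [show hS.exact.lift _ hw = ψ from rfl, h, zero_comp] at h2
    have h3 := congrArg (fun v => (KFlatLib.tensorUnitIso L).hom.app ⊤ (v.app ⊤ (H23.Frame.one ⊤))) h2
    simp only [homOfTop_one] at h3
    refine Eq.trans ?_ (h3.symm.trans (map_zero _))
    exact (congrArg (fun v : L ⟶ L => v.app ⊤ σ) (KFlatLib.tensorUnitIso L).inv_hom_id).symm)
  have h4 := (CurveDeg.deg_le_and_isIso k hdim.le CurveDeg.isInvertible_structureModule
    (InvX.isInvertible_tensorMod hL hP) ψ hψ).1
  rw [CurveDeg.deg_structureModule] at h4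
  have h5 := CurveRR.deg_tensor k hdim hL hP
  rw [CurveEmbed.deg_point k hx] at h5
  have h6 : (0 : ℤ) ≤ Curv2.deg k X L 1 + -(Module.finrank k (X.residueField x) : ℤ) := h5 ▸ h4
  omega

variable (h0 : Module.finrank k (Coh.HH X (Coh.structureModule X) 0) = 1)

include h0

attribute [local instance] CurveBC.overBar

set_option maxHeartbeats 4000000 in
/-- Among the ratios of the canonical sections one has nonzero differential. -/
theorem exists_ratio_D_ne_zero (hg : 2 ≤ Curv2.genus k X) :
    ∃ (W : X.Opens) (_ : IsAffineOpen W) (hη : genericPoint X ∈ W)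
      (s t : Γ(Omega.sheaf (X ↘ Spec (CommRingCat.of k)), ⊤)) (a : Γ(X, W)),
      InvX.IsFrame (AModX.res _ (le_top : W ≤ ⊤) t) ∧
      AModX.res _ (le_top : W ≤ ⊤) s = a • AModX.res _ (le_top : W ≤ ⊤) t ∧
      KaehlerDifferential.D k X.functionField (X.presheaf.germ W (genericPoint X) hη a) ≠ 0 ∧
      Transcendental k (X.presheaf.germ W (genericPoint X) hη a : X.functionField) ∧
      ∀ c : k, s - sc (X := X) k c • t ≠ 0 := by
  classical
  set Ω₀ := Omega.sheaf (X ↘ Spec (CommRingCat.of k))
  haveI := CurveCohLib.isNoetherian_of_proper (k := k) (X := X)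
  have hΩ := CurveBC.isInvertible_omega k X hdim h0
  obtain ⟨hh, hdeg⟩ := CurveBC.canonical_invariants k X hdim h0
  haveI := CurveCohLib.finite_HH (k := k) (CurveDeg.isCoh_of_isInvertible hΩ) 0
  let bs : Module.Basis (Fin (Curv2.genus k X)) k (Coh.HH X Ω₀ 0) := Module.finBasisOfFinrankEq k _ hh
  let σ : Fin (Curv2.genus k X) → Γ(Ω₀, ⊤) := fun i => Sheaf.H.equiv₀ (Coh.toAb Ω₀) isTerminalTop (bs i)
  have hσ : LinearIndependent k fun i => (Sheaf.H.equiv₀ (Coh.toAb Ω₀) isTerminalTop).symm (σ i) := by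
    simpa only [σ, AddEquiv.symm_apply_apply] using bs.linearIndependent
  let i₀ : Fin (Curv2.genus k X) := ⟨0, by omega⟩
  obtain ⟨U, hηU, e, he⟩ := InvX.exists_frame hΩ (genericPoint X)
  obtain ⟨a₀, ha₀⟩ := he.exists_coord le_rfl (AModX.res Ω₀ (le_top : U ≤ ⊤) (σ i₀))
  rw [AModX.res_self] at ha₀
  have ha₀' : genericPoint X ∈ X.basicOpen a₀ := by
    rw [Scheme.mem_basicOpen X a₀ _ hηU]
    refine (Ne.isUnit (show (X.presheaf.germ U (genericPoint X) hηU a₀ : X.functionField) ≠ 0 from fun h => ?_) : IsUnit (X.presheaf.germ U (genericPoint X) hηU a₀ : X.functionField))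
    refine bs.ne_zero i₀ ((Sheaf.H.equiv₀ (Coh.toAb Ω₀) isTerminalTop).injective ?_)
    rw [map_zero]
    refine CurveCohLib.Hopf.eq_zero_of_germ_eq_zero hΩ _ (x := genericPoint X) ?_
    refine ((Ω₀.presheaf.germ_res_apply (homOfLE (le_top : U ≤ ⊤)) _ hηU (σ i₀)).symm).trans ?_
    refine (congrArg (Ω₀.presheaf.germ U _ hηU) ha₀).trans ((QCoh.germ_smul' Ω₀ hηU a₀ e).trans ?_)
    rw [show X.presheaf.germ U (genericPoint X) hηU a₀ = 0 from h, zero_smul]
  obtain ⟨W, hW, hηW, hWle⟩ := Opens.isBasis_iff_nbhd.mp X.isBasis_affineOpens ha₀'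
  have hWU : W ≤ U := hWle.trans (X.basicOpen_le a₀)
  have ht : InvX.IsFrame (AModX.res Ω₀ (le_top : W ≤ ⊤) (σ i₀)) := by
    rw [← AModX.res_res (le_top : U ≤ ⊤) hWU, ha₀, AModX.res_smul]
    refine (he.res hWU).isUnit_smul ?_
    have hu := X.toRingedSpace.isUnit_res_basicOpen a₀
    have h2 := hu.map (X.presheaf.map (homOfLE hWle).op).hom
    refine Eq.mp (congrArg IsUnit ?_) h2
    show X.presheaf.map _ (X.presheaf.map _ a₀) = X.presheaf.map _ a₀
    rw [← CommRingCat.comp_apply, ← Functor.map_comp]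
    rfl
  choose a ha using fun i => ht.exists_coord le_rfl (AModX.res Ω₀ (le_top : W ≤ ⊤) (σ i))
  simp only [AModX.res_self] at ha
  -- over the algebraic closure
  let kb := AlgebraicClosure k
  let X' := Curv2.bc k X kb
  let π := Curv2.bcFst k X kb
  obtain ⟨_, _, _, hd', _, _⟩ := CurveBC.bar_facts k X hdim h0
  haveI : CompactSpace X := inferInstance
  haveI := quasiSeparatedSpace_of_quasiSeparated (X ↘ Spec (CommRingCat.of k))
  have hpb := CurveBC.isPullback_bar k X
  haveI : Nonempty ↥X' := ⟨genericPoint X'⟩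
  have hind := pull_independent k kb π hpb h0 (CurveBC.isFinLocFree_omega k X) σ hσ
  have hπη : π (genericPoint X') = genericPoint X := by
    have h := (genericPoint_spec X').image π.continuous
    rw [Set.image_univ, π.surjective.range_eq, closure_univ] at h
    exact h.eq (genericPoint_spec X)
  have hηW' : genericPoint X' ∈ π ⁻¹ᵁ W := by
    show π (genericPoint X') ∈ W
    rw [hπη]; exact hηW
  let ρ : X.functionField →+* X'.functionField :=
    (π.stalkMap (genericPoint X')).hom.comp
      (X.presheaf.stalkSpecializes (show π (genericPoint X') ⤳ genericPoint X by rw [hπη])).hom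
  have hρ : ∀ (V : X.Opens) (h : genericPoint X ∈ V) (h' : genericPoint X' ∈ π ⁻¹ᵁ V) (b : Γ(X, V)),
      ρ (X.presheaf.germ V _ h b) = X'.presheaf.germ (π ⁻¹ᵁ V) _ h' (π.app V b) := fun V h h' b => by
    show π.stalkMap _ (X.presheaf.stalkSpecializes _ (X.presheaf.germ V _ h b)) = _
    rw [TopCat.Presheaf.germ_stalkSpecializes_apply]
    exact Scheme.Hom.germ_stalkMap_apply π V _ _ b
  have hρc : ∀ c : k, ρ (algebraMap k X.functionField c) = algebraMap kb X'.functionField (algebraMap k kb c) := fun c => by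
    refine (hρ ⊤ trivial trivial _).trans ?_
    show X'.presheaf.germ ⊤ _ _ (π.appTop (Coh.toGlobal (X ↘ Spec (CommRingCat.of k)) c)) =
      X'.presheaf.germ ⊤ _ _ (Coh.toGlobal (X' ↘ Spec (CommRingCat.of kb)) (algebraMap k kb c))
    rw [QCoh.toGlobal_comm _ _ π hpb.w]
  have hM' := PicClLib.isInvertible_pullback π hΩ
  have hfr := InvX.isFrame_pullElt π ht
  obtain ⟨Φ, hΦ, hΦ'⟩ := CurveCohLib.Hopf.exists_coordLin kb hfr hM' hηW'
  letI := (Curv2.stalkMap kb X' (genericPoint X')).toAlgebra
  have hΦt : ∀ i, Φ ((Sheaf.H.equiv₀ (Coh.toAb ((Scheme.Modules.pullback π).obj Ω₀)) isTerminalTop).symm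
      (pullTop π Ω₀ (σ i))) = X'.presheaf.germ (π ⁻¹ᵁ W) _ hηW' (π.app W (a i)) := fun i => by
    refine (hfr.germ_bijective hηW').1 ((hΦ' _).trans ?_)
    rw [AddEquiv.apply_symm_apply]
    refine ((((Scheme.Modules.pullback π).obj Ω₀).presheaf.germ_res_apply
      (homOfLE (le_top : π ⁻¹ᵁ W ≤ ⊤)) _ hηW' _).symm).trans ?_
    refine Eq.trans ?_ (QCoh.germ_smul' _ hηW' (π.app W (a i)) _)
    refine congrArg (((Scheme.Modules.pullback π).obj Ω₀).presheaf.germ (π ⁻¹ᵁ W) _ hηW') ?_
    rw [← H23.EndInv.pullElt_smul, ← ha i, ← InvX.res_pullElt]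
    rfl
  let F : Fin (Curv2.genus k X) → X'.functionField := fun i => ρ (X.presheaf.germ W _ hηW (a i))
  have hF : ∀ i, F i = Φ ((Sheaf.H.equiv₀ (Coh.toAb ((Scheme.Modules.pullback π).obj Ω₀)) isTerminalTop).symm
      (pullTop π Ω₀ (σ i))) := fun i => (hρ W hηW hηW' (a i)).trans (hΦt i).symm
  have hFind : LinearIndependent kb F := by
    rw [funext hF]
    exact hind.map' Φ (LinearMap.ker_eq_bot.2 hΦ)
  have hK' := CurveFF.isFunctionField kb X' hd'
  have hq := QCoh.isQCoh_of_isFinLocFree (CurveBC.isFinLocFree_omega k X)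
  obtain ⟨j, hj⟩ := exists_D_ne_zero hK' (CurveFF.isGeometric kb X') hg
    ((CurveFF.genus_eq kb hd').trans (CurveBC.genus_eq k kb π hpb))
    (D := CurveFF.divisor kb hd' hM' hfr hηW')
    (le_of_eq (by rw [CurveFF.deg_divisor, CurveBC.deg_eq k kb π hpb _ hq, hdeg]))
    F hFind (fun i => coord_mem_L kb hd' hM' hfr hηW' (pullTop π Ω₀ (σ i)) _ (by
      rw [hF]
      refine (hΦ' _).trans ?_
      rw [AddEquiv.apply_symm_apply]))
  refine ⟨W, hW, hηW, σ j, σ i₀, a j, ht, ha j, ?_, ?_, ?_⟩
  · intro hD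
    letI : Algebra X.functionField X'.functionField := ρ.toAlgebra
    letI : Algebra k X'.functionField := ((algebraMap kb X'.functionField).comp (algebraMap k kb)).toAlgebra
    haveI : IsScalarTower k kb X'.functionField := IsScalarTower.of_algebraMap_eq fun _ => rfl
    haveI : IsScalarTower k X.functionField X'.functionField := IsScalarTower.of_algebraMap_eq fun c => (hρc c).symm
    refine hj ?_
    show KaehlerDifferential.D kb X'.functionField (algebraMap X.functionField X'.functionField _) = 0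
    rw [← KaehlerDifferential.map_D k kb, hD, map_zero]
  · intro halg
    refine hj ?_
    letI : Algebra k X'.functionField := ((algebraMap kb X'.functionField).comp (algebraMap k kb)).toAlgebra
    haveI : IsScalarTower k kb X'.functionField := IsScalarTower.of_algebraMap_eq fun _ => rfl
    let ρ' : X.functionField →ₐ[k] X'.functionField := { ρ with commutes' := hρc }
    have h1 : IsAlgebraic kb (F j) := (halg.algHom ρ').tower_top kb
    obtain ⟨c, hc⟩ := hK'.2 _ h1
    rw [← hc, Derivation.map_algebraMap]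
  · intro c hc
    refine hj ?_
    have h1 := congrArg (AModX.res Ω₀ (le_top : W ≤ ⊤)) hc
    rw [map_sub, AModX.res_smul, ha j, map_zero, ← sub_smul] at h1
    have h2 : a j = X.presheaf.map (homOfLE (le_top : W ≤ ⊤)).op (sc (X := X) k c) :=
      sub_eq_zero.1 (ht.coord_unique le_rfl (r' := 0) (by rw [AModX.res_self, zero_smul]; exact h1))
    have h3 : X.presheaf.germ W _ hηW (a j) = algebraMap k X.functionField c := by
      rw [h2, X.presheaf.germ_res_apply]
      exact CurveVA.germ_sc k c
    show KaehlerDifferential.D kb X'.functionField (ρ _) = 0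
    rw [h3, hρc, Derivation.map_algebraMap]

end Groth.Agent.SepPt
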