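import Groth.Agent.SepPt.Scheme
import Groth.Agent.H23.TrivBasic

/-!
Closed points with separable residue field from a function with nonzero differential.
-/

noncomputable section

set_option autoImplicit false
set_option linter.style.haveILetI false
set_option linter.unusedSectionVars false
set_option backward.isDefEq.respectTransparency false
set_option backward.isDefEq.respectTransparency.types false

universe u

open CategoryTheory CategoryTheory.Limits AlgebraicGeometry TopologicalSpace Opposite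
open Groth.Agent.CurveVA (sc)

namespace Groth.Agent.SepPt

attribute [local instance] CurveFF.ffAlg
attribute [local instance] Curv2.resAlgebra

/-- A global frame leaves only one section up to constants. -/
theorem finrank_h0_le_one (k : Type u) [Field k] {X : Scheme.{u}} [X.Over (Spec (CommRingCat.of k))]
    (h0 : Module.finrank k (Coh.HH X (Coh.structureModule X) 0) = 1) {M : X.Modules} (σ : Γ(M, ⊤))
    (h : InvX.IsFrame σ) : Module.finrank k (Coh.HH X M 0) ≤ 1 := by
  refine finrank_le_one ((Sheaf.H.equiv₀ (Coh.toAb M) isTerminalTop).symm σ) fun t => ?_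
  obtain ⟨r, hr⟩ := h.exists_coord le_rfl (Sheaf.H.equiv₀ (Coh.toAb M) isTerminalTop t : Γ(M, ⊤))
  rw [AModX.res_self] at hr
  obtain ⟨a, ha⟩ := (CurveBC.bijective_appTop k X h0).2 r
  refine ⟨(Scheme.ΓSpecIso (CommRingCat.of k)).hom a,
    (Sheaf.H.equiv₀ (Coh.toAb M) isTerminalTop).injective ?_⟩
  refine (CurveCohLib.h0Equiv_smul M _ _).trans ?_
  rw [AddEquiv.apply_symm_apply]
  refine Eq.trans ?_ hr.symm
  refine congrArg (fun z : Γ(X, ⊤) => z • σ) ?_
  refine Eq.trans ?_ ha
  show X.presheaf.map (𝟙 (op ⊤)) ((X ↘ Spec (CommRingCat.of k)).appTop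
    ((Scheme.ΓSpecIso (CommRingCat.of k)).inv ((Scheme.ΓSpecIso (CommRingCat.of k)).hom a))) = _
  rw [Iso.hom_inv_id_apply, CategoryTheory.Functor.map_id]
  rfl

theorem finite_residueField (k : Type u) [Field k] {X : Scheme.{u}} [X.Over (Spec (CommRingCat.of k))]
    [LocallyOfFiniteType (X ↘ Spec (CommRingCat.of k))] (x : X) (hx : IsClosed ({x} : Set X)) :
    FiniteDimensional k (X.residueField x) := by
  obtain ⟨V, hV, hxV⟩ := SmoothReg.exists_chart x
  letI := (SmoothReg.affMap (X ↘ Spec (CommRingCat.of k)) V).toAlgebra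
  haveI : Algebra.FiniteType k Γ(X, V) := SmoothReg.finiteType_affMap (X ↘ Spec (CommRingCat.of k)) hV
  haveI : (hV.primeIdealOf ⟨x, hxV⟩).asIdeal.IsMaximal := hV.primeIdealOf_isMaximal_of_isClosed ⟨x, hxV⟩ hx
  haveI : Algebra.FiniteType k (hV.primeIdealOf ⟨x, hxV⟩).asIdeal.ResidueField :=
    Algebra.FiniteType.trans (S := Γ(X, V)) inferInstance
      (Algebra.FiniteType.of_surjective (Algebra.ofId _ _) (Ideal.algebraMap_residueField_surjective _))
  haveI : Module.Finite k (hV.primeIdealOf ⟨x, hxV⟩).asIdeal.ResidueField :=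
    finite_of_finite_type_of_isJacobsonRing k _
  exact Module.Finite.equiv (SmoothReg.residueEquiv (X ↘ Spec (CommRingCat.of k)) hV hxV
    (fun _ => rfl)).toLinearEquiv

theorem exists_separable_point (k : Type u) [Field k] [Infinite k] {X : Scheme.{u}}
    [X.Over (Spec (CommRingCat.of k))] [IsIntegral X] [IsProper (X ↘ Spec (CommRingCat.of k))]
    [Smooth (X ↘ Spec (CommRingCat.of k))] (hdim : topologicalKrullDim X = 1) {W : X.Opens}
    (hW : IsAffineOpen W) (hη : genericPoint X ∈ W) (a : Γ(X, W))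
    (hD : KaehlerDifferential.D k X.functionField (X.presheaf.germ W (genericPoint X) hη a) ≠ 0)
    (htr : Transcendental k (X.presheaf.germ W (genericPoint X) hη a : X.functionField)) :
    ∃ (c : k) (x : X), IsClosed ({x} : Set X) ∧ ∃ hxW : x ∈ W,
      X.presheaf.germ W x hxW (a - AModX.resR (le_top : W ≤ ⊤) (sc (X := X) k c)) ∈
        IsLocalRing.maximalIdeal (X.presheaf.stalk x) ∧
      Algebra.IsSeparable k (X.residueField x) ∧ FiniteDimensional k (X.residueField x) := by
  haveI : Nonempty W := ⟨⟨_, hη⟩⟩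
  let f := X ↘ Spec (CommRingCat.of k)
  let A := Γ(X, W)
  let L := X.functionField
  letI : Algebra k A := (SmoothReg.affMap f W).toAlgebra
  haveI : Algebra.FiniteType k A := SmoothReg.finiteType_affMap f hW
  haveI := functionField_isFractionRing_of_isAffineOpen X W hW
  haveI : IsScalarTower k A L := IsScalarTower.of_algebraMap_eq fun c => by
    show X.presheaf.germ ⊤ _ _ _ = X.presheaf.germ W _ _ _
    exact (X.presheaf.germ_res_apply (homOfLE (le_top : W ≤ ⊤)) (genericPoint X) hη _).symm
  have hinj : Function.Injective (algebraMap A L) := IsFractionRing.injective A L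
  obtain ⟨v, hv⟩ := finrank_eq_one_iff'.1 (finrank_omega k hdim)
  obtain ⟨c₀, hc₀⟩ := hv.2 (KaehlerDifferential.D k L (algebraMap A L a))
  have hc₀0 : c₀ ≠ 0 := fun h => hD (by
    rw [h, zero_smul] at hc₀; exact hc₀.symm)
  have hspan : ∀ w : Ω[A⁄k], ∃ (b r : A), b ≠ 0 ∧ b • w = r • KaehlerDifferential.D k A a := fun w => by
    obtain ⟨d, hd⟩ := hv.2 (KaehlerDifferential.map k k A L w)
    obtain ⟨p, q, hq, hpq⟩ := IsFractionRing.div_surjective (A := A) (d / c₀)
    have h1 : KaehlerDifferential.map k k A L (q • w - p • KaehlerDifferential.D k A a) = 0 := by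
      rw [map_sub, map_smul, map_smul, KaehlerDifferential.map_D, ← algebraMap_smul L q,
        ← algebraMap_smul L p, ← hd, ← hc₀, smul_smul, smul_smul, ← sub_smul]
      have : algebraMap A L q * d - algebraMap A L p * c₀ = 0 := by
        have hq0 : algebraMap A L q ≠ 0 := fun h => nonZeroDivisors.ne_zero hq (hinj (h.trans (map_zero _).symm))
        rw [div_eq_div_iff hq0 hc₀0] at hpq
        linear_combination -hpq
      rw [this, zero_smul]
    obtain ⟨r, hr⟩ := (IsLocalizedModule.eq_zero_iff (nonZeroDivisors A) (KaehlerDifferential.map k k A L)).1 h1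
    refine ⟨r.1 * q, r.1 * p, mul_ne_zero (nonZeroDivisors.ne_zero r.2) (nonZeroDivisors.ne_zero hq), ?_⟩
    have h2 : r.1 • (q • w - p • KaehlerDifferential.D k A a) = 0 := hr
    rwa [smul_sub, smul_smul, smul_smul, sub_eq_zero] at h2
  have hta : Transcendental k a := fun h => htr (h.algHom (IsScalarTower.toAlgHom k A L))
  obtain ⟨c, m, hm, hmem, hsep, hfin⟩ := exists_separable_maximal a hta hspan
  let p : PrimeSpectrum A := ⟨m, hm.isPrime⟩
  let x : X := hW.fromSpec p
  have hxW : x ∈ W := by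
    have : x ∈ Set.range hW.fromSpec := ⟨p, rfl⟩
    rwa [hW.range_fromSpec] at this
  have hp : hW.primeIdealOf ⟨x, hxW⟩ = p :=
    hW.fromSpec.isOpenEmbedding.injective (hW.fromSpec_primeIdealOf ⟨x, hxW⟩)
  haveI : JacobsonSpace X := LocallyOfFiniteType.jacobsonSpace f
  have hx : IsClosed ({x} : Set X) := by
    have h1 : IsClosed ({p} : Set (PrimeSpectrum A)) := (PrimeSpectrum.isClosed_singleton_iff_isMaximal p).2 hm
    exact (Set.ext_iff.1 hW.fromSpec.isOpenEmbedding.preimage_closedPoints p).2 h1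
  refine ⟨c, x, hx, hxW, ?_, ?_, finite_residueField k x hx⟩
  · letI := X.presheaf.algebra_section_stalk ⟨x, hxW⟩
    haveI := hW.isLocalization_stalk ⟨x, hxW⟩
    show algebraMap A (X.presheaf.stalk x) _ ∈ _
    rw [IsLocalization.AtPrime.to_map_mem_maximal_iff (X.presheaf.stalk x) (hW.primeIdealOf ⟨x, hxW⟩).asIdeal, hp]
    have hc : AModX.resR (le_top : W ≤ ⊤) (sc (X := X) k c) = algebraMap k A c := by
      show X.presheaf.map _ (X.presheaf.map (𝟙 (op ⊤)) _) = _
      rw [CategoryTheory.Functor.map_id]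
      rfl
    rw [hc]
    exact hmem
  · let e : (hW.primeIdealOf ⟨x, hxW⟩).asIdeal.ResidueField ≃ₐ[k] X.residueField x :=
      SmoothReg.residueEquiv f hW hxW (fun _ => rfl)
    haveI := hm
    haveI : (hW.primeIdealOf ⟨x, hxW⟩).asIdeal.IsMaximal := hp ▸ hm
    let e₁ : (A ⧸ (hW.primeIdealOf ⟨x, hxW⟩).asIdeal) ≃ₐ[k] (hW.primeIdealOf ⟨x, hxW⟩).asIdeal.ResidueField :=
      AlgEquiv.ofBijective (IsScalarTower.toAlgHom k _ _) (Ideal.bijective_algebraMap_quotient_residueField _)
    haveI : Algebra.IsSeparable k (A ⧸ (hW.primeIdealOf ⟨x, hxW⟩).asIdeal) := by rw [hp]; exact hsep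
    exact AlgEquiv.Algebra.isSeparable (e₁.trans e)

end Groth.Agent.SepPt
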