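import Groth.Agent.FFLib.GeometricPlace
import Groth.Agent.FFLib.Gaps
import Groth.Agent.FFLib.Rational
import Groth.Agent.CurveFF.Degree
import Mathlib.RingTheory.Unramified.Field
import Mathlib.RingTheory.Spectrum.Prime.Chevalley
import Mathlib.RingTheory.Flat.TorsionFree
import Mathlib.RingTheory.Jacobson.Ring

/-!
Points with separable residue field, and linear systems with nonzero differential.
-/

noncomputable section

set_option autoImplicit false
set_option linter.style.haveILetI false
set_option linter.unusedSectionVars false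
set_option backward.isDefEq.respectTransparency false
set_option backward.isDefEq.respectTransparency.types false

universe u v

open FunFld WithZero IntermediateField

namespace Groth.Agent.SepPt

/-- In an algebra whose differentials are spanned up to denominators by `df`, some rational value of
`f` is attained at a maximal ideal with separable residue field. -/
theorem exists_separable_maximal {k A : Type u} [Field k] [Infinite k] [CommRing A] [IsDomain A]
    [Algebra k A] [Algebra.FiniteType k A] (f : A) (hf : Transcendental k f)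
    (hspan : ∀ w : Ω[A⁄k], ∃ (b a : A), b ≠ 0 ∧ b • w = a • KaehlerDifferential.D k A f) :
    ∃ (c : k) (m : Ideal A), m.IsMaximal ∧ f - algebraMap k A c ∈ m ∧
      Algebra.IsSeparable k (A ⧸ m) ∧ Module.Finite k (A ⧸ m) := by
  classical
  obtain ⟨s, hs⟩ := (‹Algebra.FiniteType k A›).out
  choose b a hb hba using fun x : s => hspan (KaehlerDifferential.D k A x.1)
  let g : A := ∏ x : s, b x
  have hg : g ≠ 0 := Finset.prod_ne_zero_iff.mpr fun x _ => hb x
  -- the image of the localization in the line
  let B := Localization.Away g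
  haveI : IsDomain B := IsLocalization.isDomain_localization (powers_le_nonZeroDivisors_of_noZeroDivisors hg)
  haveI : Algebra.FiniteType A B := IsLocalization.finiteType_of_monoid_fg (Submonoid.powers g) B
  haveI : Algebra.FiniteType k B := Algebra.FiniteType.trans (S := A) inferInstance inferInstance
  have hinjB : Function.Injective (algebraMap A B) :=
    IsLocalization.injective B (powers_le_nonZeroDivisors_of_noZeroDivisors hg)
  let φ : Polynomial k →ₐ[k] B := Polynomial.aeval (algebraMap A B f)
  have hφ : Function.Injective φ := by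
    have h : Transcendental k (algebraMap A B f) :=
      fun h => hf ((isAlgebraic_algHom_iff (IsScalarTower.toAlgHom k A B) hinjB).mp h)
    exact transcendental_iff_injective.mp h
  letI : Algebra (Polynomial k) B := φ.toRingHom.toAlgebra
  haveI : IsScalarTower k (Polynomial k) B := IsScalarTower.of_algebraMap_eq fun c => (φ.commutes c).symm
  haveI : Algebra.FiniteType (Polynomial k) B := Algebra.FiniteType.of_restrictScalars_finiteType k _ _
  haveI : Algebra.FinitePresentation (Polynomial k) B := Algebra.FinitePresentation.of_finiteType.mp inferInstance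
  haveI : Module.IsTorsionFree (Polynomial k) B := by
    rw [Submodule.isTorsionFree_iff_torsion_eq_bot, eq_bot_iff]
    rintro m ⟨⟨q, hq⟩, hqm⟩
    rcases mul_eq_zero.mp (show φ q * m = 0 from hqm) with h | h
    · exact absurd (hφ (h.trans φ.map_zero.symm)) (nonZeroDivisors.ne_zero hq)
    · exact h
  haveI : Module.Flat (Polynomial k) B := inferInstance
  have hopen := PrimeSpectrum.isOpenMap_comap_of_hasGoingDown_of_finitePresentation (R := Polynomial k) (S := B)
  obtain ⟨_, ⟨q, rfl⟩, hq0, hsub⟩ := (TopologicalSpace.Opens.isBasis_iff_nbhd.mp PrimeSpectrum.isBasis_basic_opens)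
    (show PrimeSpectrum.comap (algebraMap (Polynomial k) B) ⟨⊥, Ideal.bot_prime⟩ ∈
      (⟨_, hopen.isOpen_range⟩ : TopologicalSpace.Opens (PrimeSpectrum (Polynomial k))) from ⟨_, rfl⟩)
  have hq : q ≠ 0 := fun e => hq0 (e.symm ▸ Ideal.zero_mem _)
  obtain ⟨c, hc⟩ : ∃ c : k, q.eval c ≠ 0 := by
    by_contra hno
    push Not at hno
    exact hq (Polynomial.funext fun r => by rw [hno r, Polynomial.eval_zero])
  haveI hPp : (RingHom.ker (Polynomial.evalRingHom c)).IsPrime := RingHom.ker_isPrime _
  obtain ⟨Q, hQ⟩ := hsub (show (⟨RingHom.ker (Polynomial.evalRingHom c), hPp⟩ : PrimeSpectrum (Polynomial k)) ∈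
    PrimeSpectrum.basicOpen q from fun h => hc (RingHom.mem_ker.mp h))
  obtain ⟨M, hM, hQM⟩ := Ideal.exists_le_maximal Q.asIdeal Q.2.ne_top
  have hfM : algebraMap A B (f - algebraMap k A c) ∈ M := by
    refine hQM ?_
    have h1 : (Polynomial.X - Polynomial.C c) ∈ Q.asIdeal.comap (algebraMap (Polynomial k) B) := by
      rw [show Q.asIdeal.comap (algebraMap (Polynomial k) B) = RingHom.ker (Polynomial.evalRingHom c) from
        congrArg PrimeSpectrum.asIdeal hQ, RingHom.mem_ker]
      simp
    have h2 : φ (Polynomial.X - Polynomial.C c) ∈ Q.asIdeal := h1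
    rw [map_sub, Polynomial.aeval_X, Polynomial.aeval_C] at h2
    rwa [map_sub, ← IsScalarTower.algebraMap_apply k A B]
  let m : Ideal A := M.comap (algebraMap A B)
  haveI := hM
  letI : Field (B ⧸ M) := Ideal.Quotient.field M
  haveI : Module.Finite k (B ⧸ M) := finite_of_finite_type_of_isJacobsonRing k (B ⧸ M)
  let ι : A ⧸ m →ₐ[k] B ⧸ M := Ideal.quotientMapₐ M (IsScalarTower.toAlgHom k A B) le_rfl
  have hι : Function.Injective ι := Ideal.quotientMap_injective (I := M) (f := algebraMap A B)
  haveI : m.IsPrime := Ideal.comap_isPrime _ M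
  haveI : Module.Finite k (A ⧸ m) := Module.Finite.of_injective ι.toLinearMap hι
  haveI hmax : m.IsMaximal := Ideal.Quotient.maximal_of_isField _
    (isField_of_isIntegral_of_isField' (Field.toIsField k) (S := A ⧸ m))
  have hgm : ∀ x, b x ∉ m := fun x hx => hM.ne_top (Ideal.eq_top_of_isUnit_mem _ hx
    (isUnit_of_dvd_unit (map_dvd (algebraMap A B) (Finset.dvd_prod_of_mem b (Finset.mem_univ x)))
      (IsLocalization.map_units B (⟨g, Submonoid.mem_powers g⟩ : Submonoid.powers g))))
  letI : Field (A ⧸ m) := Ideal.Quotient.field m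
  let ψ := KaehlerDifferential.map k k A (A ⧸ m)
  have hψ : ∀ y : A, ψ (KaehlerDifferential.D k A y) = KaehlerDifferential.D k (A ⧸ m) (algebraMap A (A ⧸ m) y) :=
    fun y => KaehlerDifferential.map_D k k A (A ⧸ m) y
  have hfc : algebraMap A (A ⧸ m) f = algebraMap k (A ⧸ m) c := by
    rw [IsScalarTower.algebraMap_apply k A (A ⧸ m), ← sub_eq_zero, ← map_sub]
    exact Ideal.Quotient.eq_zero_iff_mem.mpr hfM
  have hzero : ∀ y : A, ψ (KaehlerDifferential.D k A y) = 0 := by
    intro y
    have h := Derivation.ext_of_adjoin_eq_top (s : Set A) hs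
      (D1 := ψ.compDer (KaehlerDifferential.D k A)) (D2 := 0) (fun x hx => by
        have h1 := congrArg ψ (hba ⟨x, hx⟩)
        rw [map_smul, map_smul, hψ f, hfc, Derivation.map_algebraMap, smul_zero] at h1
        have h2 : algebraMap A (A ⧸ m) (b ⟨x, hx⟩) • ψ (KaehlerDifferential.D k A x) = 0 := by
          rw [algebraMap_smul]; exact h1
        exact (smul_eq_zero.mp h2).resolve_left fun e => hgm _ (Ideal.Quotient.eq_zero_iff_mem.mp e))
    exact DFunLike.congr_fun h y
  haveI : Subsingleton Ω[(A ⧸ m)⁄k] := subsingleton_of_forall_eq 0 fun w => by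
    have hw : w ∈ Submodule.span (A ⧸ m) (Set.range (KaehlerDifferential.D k (A ⧸ m))) := by
      rw [KaehlerDifferential.span_range_derivation]; trivial
    induction hw using Submodule.span_induction with
    | mem z hz =>
      obtain ⟨z, rfl⟩ := hz
      obtain ⟨y, rfl⟩ := Ideal.Quotient.mk_surjective z
      exact (hψ y).symm.trans (hzero y)
    | zero => rfl
    | add u v _ _ hu hv => rw [hu, hv, add_zero]
    | smul r u _ hu => rw [hu, smul_zero]
  haveI : Algebra.FormallyUnramified k (A ⧸ m) := ⟨inferInstance⟩
  exact ⟨c, m, hmax, hfM, Algebra.FormallyUnramified.isSeparable k (A ⧸ m), inferInstance⟩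

variable {k : Type u} {K : Type v} [Field k] [Field K] [Algebra k K] [IsAlgClosed k]

/-- A linear system of dimension the genus and degree `2g - 2` has a member with nonzero differential. -/
theorem exists_D_ne_zero (hK : IsFunctionField k K) (hgeo : IsGeometric k K) {n : ℕ} (hn : 2 ≤ n)
    (hgn : genus k K = n) {D : Divisor k K} (hdeg : D.deg ≤ 2 * (n : ℤ) - 2) (f : Fin n → K)
    (hf : LinearIndependent k f) (hmem : ∀ j, f j ∈ L D) :
    ∃ j, KaehlerDifferential.D k K (f j) ≠ 0 := by
  classical
  by_contra hcon
  push Not at hcon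
  obtain ⟨x, hx, hsep⟩ := FFLib.exists_separating_element hK hgeo
  rcases CharP.exists' k with h0 | ⟨p, hp, hpk⟩
  · haveI := h0
    have hconst : ∀ j, f j ∈ Submodule.span k {(1 : K)} := fun j => by
      by_contra hj
      have ht : Transcendental k (f j) := fun halg => hj (by
        obtain ⟨c, hc⟩ := hK.2 _ halg
        rw [← hc, Algebra.algebraMap_eq_smul_one]
        exact Submodule.smul_mem _ _ (Submodule.mem_span_singleton_self _))
      haveI := FFLib.IsFF.finite_adjoin hK.1 ht
      exact FFLib.D_ne_zero hK ht inferInstance (hcon j)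
    have h1 : Module.finrank k (Submodule.span k (Set.range f)) ≤ Module.finrank k (Submodule.span k {(1 : K)}) :=
      Submodule.finrank_mono (Submodule.span_le.mpr (Set.range_subset_iff.mpr hconst))
    rw [finrank_span_eq_card hf, Fintype.card_fin, finrank_span_singleton one_ne_zero] at h1
    omega
  · haveI := hp
    haveI := hpk
    haveI : CharP K p := charP_of_injective_algebraMap (algebraMap k K).injective p
    haveI : ExpChar K p := .prime hp.out
    haveI : ExpChar k p := .prime hp.out
    have hpow : ∀ j, ∃ h : K, h ^ p = f j := fun j => by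
      have h1 := (FFLib.powField_facts p hK hx hsep).2.2 _ (hcon j)
      obtain ⟨m, c, y, hy⟩ := Submodule.mem_span_set'.mp (FFLib.mem_span_pow_of_mem_powField p hp.out.one_le h1)
      choose z hz using fun i => (y i).2
      choose d hd using fun i => IsAlgClosed.exists_pow_nat_eq (c i) hp.out.pos
      refine ⟨∑ i, d i • z i, ?_⟩
      rw [sum_pow_char, ← hy]
      refine Finset.sum_congr rfl fun i _ => ?_
      rw [smul_pow, hd]
      exact congrArg _ (hz i)
    choose h hh using hpow
    have hind : LinearIndependent k h := by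
      rw [Fintype.linearIndependent_iff] at hf ⊢
      intro a ha i
      have h1 := hf (fun i => a i ^ p) (by
        calc ∑ i, a i ^ p • f i = ∑ i, (a i • h i) ^ p := Finset.sum_congr rfl fun i _ => by rw [smul_pow, hh]
          _ = (∑ i, a i • h i) ^ p := (sum_pow_char p _ _).symm
          _ = 0 := by rw [ha, zero_pow hp.out.ne_zero]) i
      exact eq_zero_of_pow_eq_zero h1
    let D' : Divisor k K := D.mapRange (fun m => m / (p : ℤ)) (by simp)
    have hmem' : ∀ j, h j ∈ L D' := fun j P => by
      rcases eq_or_ne (h j) 0 with e | e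
      · rw [e, map_zero]; exact zero_le'
      have h1 := hmem j P
      rw [← hh j, map_pow, FFLib.val_eq_exp P e, ← exp_nsmul, exp_le_exp, nsmul_eq_mul] at h1
      rw [FFLib.val_eq_exp P e, exp_le_exp, Finsupp.mapRange_apply, Int.le_ediv_iff_mul_le (by exact_mod_cast hp.out.pos)]
      linarith
    haveI := FFLib.L_finite hK.1 D'
    have hell : n ≤ ell D' := by
      have h2 : LinearIndependent k (fun j => (⟨h j, hmem' j⟩ : L D')) := LinearIndependent.of_comp (L D').subtype hind
      simpa [ell] using h2.fintype_card_le_finrank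
    have hd' : (p : ℤ) * D'.deg ≤ D.deg := by
      have h1 : ∀ P : Place k K, ((p : ℤ) • D') P ≤ D P := fun P => by
        rw [Finsupp.smul_apply, Finsupp.mapRange_apply, smul_eq_mul]
        exact Int.mul_ediv_self_le (by exact_mod_cast hp.out.ne_zero)
      refine le_trans (le_of_eq ?_) (FFLib.Divisor.deg_mono h1)
      simp only [Divisor.deg]
      rw [Finsupp.sum_smul_index fun _ => zero_mul _]
      simp [Finsupp.sum, Finset.mul_sum, mul_assoc]
    have h3 := CurveFF.ell_le_succ hK (D := D') (by omega)
    obtain ⟨P⟩ := FFLib.exists_place hK.1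
    have h2p : (2 : ℤ) ≤ p := by exact_mod_cast hp.out.two_le
    have h4 : 2 * D'.deg ≤ D.deg := le_trans (mul_le_mul_of_nonneg_right h2p (by omega)) hd'
    have h5 := FFLib.clifford hK (FFLib.deg_eq_one hK.1 P) (D := D') (by omega) (by omega)
    omega

end Groth.Agent.SepPt
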